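import Groth.Agent.HTop.K343.Ab.Sq
import Groth.Agent.HTop.K343.EtLe
import Groth.Agent.Ega1.CDLift

/-!
# Sheaves on the ph and h sites and squares `E ⟶ X'`, `Z ⟶ X`

* `pair_mem_ph`, `pair_mem_h`: two jointly surjective proper morphisms form a covering.
* `cartesian`: a general criterion for a presheaf on `Over S` to turn a square with the universal property `Univ`
  into a cartesian square of sets.
-/

set_option autoImplicit false
universe w u

open CategoryTheory CategoryTheory.Limits AlgebraicGeometry Opposite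

namespace K343.Ab

open K343.EtLe K343.Topo Groth.Agent.Etrest.BigEtSite

/-- A sieve on `V₁ ⨿ V₂` containing both coprojections is a Zariski covering. -/
theorem coprod_mem_zariski {V₁ V₂ : Scheme.{u}} (R : Sieve (V₁ ⨿ V₂)) (h1 : R (coprod.inl : V₁ ⟶ V₁ ⨿ V₂))
    (h2 : R (coprod.inr : V₂ ⟶ V₁ ⨿ V₂)) : R ∈ Scheme.zariskiTopology (V₁ ⨿ V₂) := by
  rw [mem_zariski_iff]
  intro x
  obtain ⟨i, y, hy⟩ := (coprodOpenCover.{u, 0} V₁ V₂).exists_eq x
  rcases i with _ | _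
  · exact ⟨V₁, coprod.inl, h1, inferInstance, ⟨y, hy⟩⟩
  · exact ⟨V₂, coprod.inr, h2, inferInstance, ⟨y, hy⟩⟩

theorem surjective_coprodDesc {V₁ V₂ U : Scheme.{u}} (f₁ : V₁ ⟶ U) (f₂ : V₂ ⟶ U)
    (h : ∀ x : U, x ∈ Set.range f₁ ∨ x ∈ Set.range f₂) : Surjective (coprod.desc f₁ f₂) := by
  constructor
  intro x
  rcases h x with ⟨y, rfl⟩ | ⟨y, rfl⟩
  · exact ⟨(coprod.inl : V₁ ⟶ V₁ ⨿ V₂) y, by rw [← Scheme.Hom.comp_apply, coprod.inl_desc]⟩
  · exact ⟨(coprod.inr : V₂ ⟶ V₁ ⨿ V₂) y, by rw [← Scheme.Hom.comp_apply, coprod.inr_desc]⟩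

/-- A sieve containing two morphisms `f₁`, `f₂` is covering for `L`, if `L` is finer than the Zariski topology and
`coprod.desc f₁ f₂` is covering. -/
theorem pair_mem (L : GrothendieckTopology Scheme.{u}) (hL : Scheme.zariskiTopology ≤ L) {V₁ V₂ U : Scheme.{u}}
    (f₁ : V₁ ⟶ U) (f₂ : V₂ ⟶ U) (h : Sieve.generate (Presieve.singleton (coprod.desc f₁ f₂)) ∈ L U)
    (R : Sieve U) (h1 : R f₁) (h2 : R f₂) : R ∈ L U := by
  refine L.transitive h _ ?_
  rintro Y g ⟨W', k, _, ⟨⟩, rfl⟩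
  rw [Sieve.pullback_comp]
  apply L.pullback_stable
  apply hL
  apply coprod_mem_zariski
  · rw [Sieve.pullback_apply, coprod.inl_desc]; exact h1
  · rw [Sieve.pullback_apply, coprod.inr_desc]; exact h2

theorem pair_mem_ph {V₁ V₂ U : Scheme.{u}} (f₁ : V₁ ⟶ U) (f₂ : V₂ ⟶ U) [IsProper f₁] [IsProper f₂]
    (h : ∀ x : U, x ∈ Set.range f₁ ∨ x ∈ Set.range f₂) (R : Sieve U) (h1 : R f₁) (h2 : R f₂) :
    R ∈ HTop.phTopology U := by
  have := Groth.Agent.Ega1.CDLift.isProper_coprodDesc f₁ f₂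
  have := surjective_coprodDesc f₁ f₂ h
  exact pair_mem _ zariski_le_ph f₁ f₂ (singleton_mem_ph _) R h1 h2

theorem pair_mem_h {V₁ V₂ U : Scheme.{u}} (f₁ : V₁ ⟶ U) (f₂ : V₂ ⟶ U) [IsProper f₁] [IsProper f₂]
    [LocallyOfFinitePresentation f₁] [LocallyOfFinitePresentation f₂]
    (h : ∀ x : U, x ∈ Set.range f₁ ∨ x ∈ Set.range f₂) (R : Sieve U) (h1 : R f₁) (h2 : R f₂) :
    R ∈ HTop.hTopology U := by
  have := Groth.Agent.Ega1.CDLift.isProper_coprodDesc f₁ f₂
  have := Groth.Agent.Ega1.CDLift.locallyOfFinitePresentation_coprodDesc f₁ f₂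
  have := surjective_coprodDesc f₁ f₂ h
  exact pair_mem _ zariski_le_h f₁ f₂ (singleton_mem_h _) R h1 h2

section Univ

variable {X X' Z : Scheme.{u}}

theorem isEff_top (I : X.IdealSheafData) (h : I = ⊤) : BlowUp.IsEffCartierIdeal I := by
  subst h
  intro x
  obtain ⟨_, ⟨V, hV, rfl⟩, hyV, -⟩ := X.isBasis_affineOpens.exists_subset_of_mem_open (Set.mem_univ x) isOpen_univ
  exact ⟨⟨V, hV⟩, hyV, 1, one_mem _, by simp⟩

/-- A morphism missing the centre factors uniquely. -/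
theorem existsUnique_of_disjoint {b : X' ⟶ X} {i : Z ⟶ X} [IsClosedImmersion i] (hu : Univ b i.ker)
    {T : Scheme.{u}} (g : T ⟶ X) (hg : ∀ x, g x ∉ Set.range i) : ∃! h : T ⟶ X', h ≫ b = g := by
  apply hu
  apply isEff_top
  rw [← Scheme.IdealSheafData.support_eq_bot_iff, Scheme.IdealSheafData.support_comap]
  ext x
  simp only [TopologicalSpace.Closeds.coe_preimage, Set.mem_preimage, TopologicalSpace.Closeds.coe_bot,
    Set.mem_empty_iff_false, iff_false, SetLike.mem_coe]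
  intro hx
  have h2 : g x ∈ (i.ker.support : Set X) := hx
  rw [Scheme.Hom.support_ker, IsClosed.closure_eq i.isClosedEmbedding.isClosed_range] at h2
  exact hg x h2

/-- `Z` and `X'` cover `X`. -/
theorem range_or {b : X' ⟶ X} {i : Z ⟶ X} [IsClosedImmersion i] (hu : Univ b i.ker) (x : X) :
    x ∈ Set.range i ∨ x ∈ Set.range b := by
  by_cases hx : x ∈ Set.range i
  · exact Or.inl hx
  · refine Or.inr ?_
    let U : X.Opens := ⟨(Set.range i)ᶜ, i.isClosedEmbedding.isClosed_range.isOpen_compl⟩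
    obtain ⟨h, hh, -⟩ := existsUnique_of_disjoint hu U.ι (fun y => y.2)
    let x' : (U : Scheme.{u}) := ⟨x, hx⟩
    exact ⟨h x', congr($(hh) x')⟩

/-- The equalizer of two morphisms to `X'` over `X` and the inverse image of `Z` cover the source. -/
theorem range_or_equalizer {b : X' ⟶ X} {i : Z ⟶ X} [IsClosedImmersion i] (hu : Univ b i.ker) {T : Scheme.{u}}
    (g₁ g₂ : T ⟶ X') (hg : g₁ ≫ b = g₂ ≫ b) (x : T) :
    x ∈ Set.range (equalizer.ι g₁ g₂) ∨ x ∈ Set.range (pullback.fst (g₁ ≫ b) i) := by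
  by_cases hx : (g₁ ≫ b) x ∈ Set.range i
  · right
    obtain ⟨z, hz⟩ := hx
    obtain ⟨w, hw, -⟩ := Scheme.Pullback.exists_preimage_pullback x z hz.symm
    exact ⟨w, hw⟩
  · left
    let U : T.Opens := ⟨(g₁ ≫ b) ⁻¹' (Set.range i)ᶜ,
      i.isClosedEmbedding.isClosed_range.isOpen_compl.preimage (g₁ ≫ b).continuous⟩
    obtain ⟨h, -, hh⟩ := existsUnique_of_disjoint hu (U.ι ≫ g₁ ≫ b) (fun y => y.2)
    have e : U.ι ≫ g₁ = U.ι ≫ g₂ := by
      rw [hh (U.ι ≫ g₁) (by simp), hh (U.ι ≫ g₂) (by simp [hg])]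
    let x' : (U : Scheme.{u}) := ⟨x, hx⟩
    exact ⟨equalizer.lift U.ι e x', congr($(equalizer.lift_ι U.ι e) x')⟩

end Univ

/-- The general criterion. -/
theorem cartesian {S : Scheme.{u}} (L : GrothendieckTopology Scheme.{u}) (F : (Over S)ᵒᵖ ⥤ Type w)
    (hF : Presieve.IsSheaf (L.over S) F) {E Z X' X : Over S} (e : E ⟶ X') (π : E ⟶ Z) (b : X' ⟶ X) (i : Z ⟶ X)
    [Mono i.left] (hE : IsPullback e.left π.left b.left i.left)
    (hc1 : ∀ R : Sieve X.left, R i.left → R b.left → R ∈ L X.left)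
    (hc2 : ∀ {T : Scheme.{u}} (g₁ g₂ : T ⟶ X'.left), g₁ ≫ b.left = g₂ ≫ b.left → ∀ R : Sieve T,
      R (equalizer.ι g₁ g₂) → R (pullback.fst (g₁ ≫ b.left) i.left) → R ∈ L T)
    (t : F.obj (op Z)) (s' : F.obj (op X')) (hts : F.map π.op t = F.map e.op s') :
    ∃! s : F.obj (op X), F.map i.op s = t ∧ F.map b.op s = s' := by
  have hmap : ∀ {A B C : Over S} (f : A ⟶ B) (g : B ⟶ C) (z : F.obj (op C)),
      F.map f.op (F.map g.op z) = F.map (f ≫ g).op z := by
    intro A B C f g z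
    rw [op_comp, F.map_comp]
    rfl
  -- the two pullbacks agree on anything mapping to `E` in a compatible way
  have hEE : ∀ {T : Over S} (g₁ g₂ : T ⟶ X') (z : T ⟶ Z), g₁ ≫ b = z ≫ i → g₂ ≫ b = z ≫ i →
      F.map g₁.op s' = F.map g₂.op s' := by
    intro T g₁ g₂ z h1 h2
    have key : ∀ (g : T ⟶ X'), g ≫ b = z ≫ i → F.map g.op s' = F.map z.op t := by
      intro g hg
      have hg' : g.left ≫ b.left = z.left ≫ i.left := congrArg (fun k => k.left) hg
      let l : T ⟶ E := Over.homMk (hE.lift g.left z.left hg') (by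
        have h3 : e.left ≫ X'.hom = E.hom := Over.w e
        have h4 : g.left ≫ X'.hom = T.hom := Over.w g
        rw [← h3, hE.lift_fst_assoc, h4])
      have e1 : l ≫ e = g := by ext1; exact hE.lift_fst _ _ _
      have e2 : l ≫ π = z := by ext1; exact hE.lift_snd _ _ _
      rw [← e1, ← e2, ← hmap, ← hmap, hts]
    rw [key g₁ h1, key g₂ h2]
  have hbb : ∀ {T : Over S} (g₁ g₂ : T ⟶ X'), g₁ ≫ b = g₂ ≫ b → F.map g₁.op s' = F.map g₂.op s' := by
    intro T g₁ g₂ hg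
    have hg' : g₁.left ≫ b.left = g₂.left ≫ b.left := congrArg (fun k => k.left) hg
    let R : Sieve T.left := Sieve.generate (fun Y k => (k ≫ g₁.left = k ≫ g₂.left) ∨
      ∃ z : Y ⟶ Z.left, k ≫ g₁.left ≫ b.left = z ≫ i.left)
    have hR : R ∈ L T.left := by
      refine hc2 g₁.left g₂.left hg' R ?_ ?_
      · exact Sieve.le_generate _ _ _ (Or.inl (equalizer.condition _ _))
      · exact Sieve.le_generate _ _ _ (Or.inr ⟨_, pullback.condition⟩)
    refine (hF (ov T R) (ov_mem L T R hR)).isSeparatedFor.ext ?_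
    intro Y k hk
    have hk' : R k.left := hk
    obtain ⟨W, c, d, hd, hcd⟩ := hk'
    rw [hmap, hmap]
    rcases hd with hd | ⟨z, hz⟩
    · have : k ≫ g₁ = k ≫ g₂ := by
        ext1
        rw [Over.comp_left, Over.comp_left, ← hcd, Category.assoc, Category.assoc, hd]
      rw [this]
    · let z' : Y ⟶ Z := Over.homMk (c ≫ z) (by
        have h3 : i.left ≫ X.hom = Z.hom := Over.w i
        have h4 : b.left ≫ X.hom = X'.hom := Over.w b
        have h5 : g₁.left ≫ X'.hom = T.hom := Over.w g₁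
        have h6 : k.left ≫ T.hom = Y.hom := Over.w k
        rw [← h3, Category.assoc, reassoc_of% hz.symm, h4, h5, ← h6, ← hcd, Category.assoc])
      have e1 : (k ≫ g₁) ≫ b = z' ≫ i := by
        ext1
        change (k.left ≫ g₁.left) ≫ b.left = (c ≫ z) ≫ i.left
        rw [Category.assoc, ← hcd, Category.assoc, hz, Category.assoc]
      refine hEE _ _ z' e1 ?_
      rw [Category.assoc, ← hg, ← Category.assoc, e1]
  -- the values
  let V : ∀ {T : Over S} (_ : T ⟶ X) (_ : F.obj (op T)), Prop := fun {T} g v =>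
    (∃ z : T ⟶ Z, z ≫ i = g ∧ v = F.map z.op t) ∨ (∃ z : T ⟶ X', z ≫ b = g ∧ v = F.map z.op s')
  have hV : ∀ {T : Over S} (g : T ⟶ X) (v v' : F.obj (op T)), V g v → V g v' → v = v' := by
    have hmix : ∀ {T : Over S} (z : T ⟶ Z) (y : T ⟶ X'), z ≫ i = y ≫ b → F.map z.op t = F.map y.op s' := by
      intro T z y h
      have h' : y.left ≫ b.left = z.left ≫ i.left := (congrArg (fun k => k.left) h).symm
      let l : T ⟶ E := Over.homMk (hE.lift y.left z.left h') (by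
        have h3 : e.left ≫ X'.hom = E.hom := Over.w e
        have h4 : y.left ≫ X'.hom = T.hom := Over.w y
        rw [← h3, hE.lift_fst_assoc, h4])
      have e1 : l ≫ e = y := by ext1; exact hE.lift_fst _ _ _
      have e2 : l ≫ π = z := by ext1; exact hE.lift_snd _ _ _
      rw [← e1, ← e2, ← hmap, ← hmap, hts]
    rintro T g v v' (⟨z, hz, rfl⟩ | ⟨z, hz, rfl⟩) (⟨y, hy, rfl⟩ | ⟨y, hy, rfl⟩)
    · have : z = y := by
        ext1
        rw [← cancel_mono i.left]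
        exact congrArg (fun k => k.left) (hz.trans hy.symm)
      rw [this]
    · exact hmix z y (hz.trans hy.symm)
    · exact (hmix y z (hy.trans hz.symm)).symm
    · exact hbb z y (hz.trans hy.symm)
  have hVc : ∀ {T T' : Over S} (k : T' ⟶ T) (g : T ⟶ X) (v : F.obj (op T)), V g v → V (k ≫ g) (F.map k.op v) := by
    rintro T T' k g v (⟨z, hz, rfl⟩ | ⟨z, hz, rfl⟩)
    · exact Or.inl ⟨k ≫ z, by rw [Category.assoc, hz], hmap _ _ _⟩
    · exact Or.inr ⟨k ≫ z, by rw [Category.assoc, hz], hmap _ _ _⟩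
  -- glue
  let R : Sieve X :=
    { arrows := fun T g => ∃ v, V g v
      downward_closed := by
        rintro T T' g ⟨v, hv⟩ k
        exact ⟨_, hVc k g v hv⟩ }
  have hR : R ∈ L.over S X := by
    rw [GrothendieckTopology.mem_over_iff]
    refine hc1 _ ?_ ?_
    · rw [Sieve.overEquiv_iff]
      exact ⟨_, Or.inl ⟨Over.homMk (𝟙 _) (by
        have h3 : i.left ≫ X.hom = Z.hom := Over.w i
        simp [h3]), by ext1; exact Category.id_comp _, rfl⟩⟩
    · rw [Sieve.overEquiv_iff]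
      exact ⟨_, Or.inr ⟨Over.homMk (𝟙 _) (by
        have h3 : b.left ≫ X.hom = X'.hom := Over.w b
        simp [h3]), by ext1; exact Category.id_comp _, rfl⟩⟩
  let x : Presieve.FamilyOfElements F R.arrows := fun T g hg => hg.choose
  have hx : ∀ {T : Over S} (g : T ⟶ X) (hg : R g), V g (x g hg) := fun g hg => hg.choose_spec
  have hxc : x.Compatible := by
    rw [Presieve.compatible_iff_sieveCompatible]
    intro T T' f g hf
    exact hV _ _ _ (hx _ _) (hVc g f _ (hx f hf))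
  obtain ⟨s, hs, hsu⟩ := hF R hR x hxc
  have hRi : R i := ⟨_, Or.inl ⟨𝟙 _, Category.id_comp _, rfl⟩⟩
  have hRb : R b := ⟨_, Or.inr ⟨𝟙 _, Category.id_comp _, rfl⟩⟩
  refine ⟨s, ⟨?_, ?_⟩, ?_⟩
  · refine hV i _ _ ?_ (Or.inl ⟨𝟙 _, Category.id_comp _, by simp⟩)
    rw [hs i hRi]
    exact hx i hRi
  · refine hV b _ _ ?_ (Or.inr ⟨𝟙 _, Category.id_comp _, by simp⟩)
    rw [hs b hRb]
    exact hx b hRb
  · rintro s₂ ⟨h1, h2⟩
    refine hsu s₂ ?_
    intro T g hg
    refine hV g _ _ ?_ (hx g hg)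
    obtain ⟨v, hv⟩ := hg
    rcases hv with ⟨z, hz, -⟩ | ⟨z, hz, -⟩
    · exact Or.inl ⟨z, hz, by rw [← hz, ← hmap, h1]⟩
    · exact Or.inr ⟨z, hz, by rw [← hz, ← hmap, h2]⟩

end K343.Ab
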