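import Groth.Prelude.Def_HTop3
import Groth.Agent.Divis.IdealComap
import Groth.Agent.Divis.CartierCompl

/-!
# Characterisation of the blow up inside an almost blow up

Let `b : X' ⟶ X` and let `𝓘` be an ideal sheaf on `X` whose inverse image on `X'` is locally principal.  The closed
subscheme of `X'` cut out by the sections supported on the exceptional locus is a blowing up of `X` in `𝓘` if and only
if every `g : T ⟶ X` under which `𝓘` becomes effective Cartier factors uniquely through `b` (`isBlowUp_iff`).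
-/

set_option autoImplicit false
universe u

open CategoryTheory CategoryTheory.Limits AlgebraicGeometry

namespace K343.Ab

open Groth.Agent.Divis.IdealComap Groth.Agent.Divis.CartierCompl

variable {X Y X' T : Scheme.{u}}

/-- The inverse image of a locally principal ideal sheaf is locally principal. -/
theorem isLocPrincipal_comap {J : X.IdealSheafData} (hJ : HTop.IsLocPrincipal J) (g : Y ⟶ X) :
    HTop.IsLocPrincipal (J.comap g) := by
  intro y
  obtain ⟨U, hU, f, hf⟩ := hJ (g y)
  obtain ⟨_, ⟨V, hV, rfl⟩, hyV, hVU⟩ := Y.isBasis_affineOpens.exists_subset_of_mem_open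
    (show y ∈ ((g ⁻¹ᵁ U.1 : Y.Opens) : Set Y) from hU) (g ⁻¹ᵁ U.1).2
  refine ⟨⟨V, hV⟩, hyV, (g.appLE U.1 V hVU).hom f, ?_⟩
  rw [ideal_comap J g U ⟨V, hV⟩ hVU, hf, Ideal.map_span, Set.image_singleton]

theorem isLocPrincipal_of_isEff {J : X.IdealSheafData} (hJ : BlowUp.IsEffCartierIdeal J) :
    HTop.IsLocPrincipal J := fun x => by
  obtain ⟨U, hx, f, _, h⟩ := hJ x
  exact ⟨U, hx, f, h⟩

/-- The inclusion of the complement of a locally principal closed subscheme is affine. -/
theorem isAffineHom_awayFrom {J : X.IdealSheafData} (hJ : HTop.IsLocPrincipal J) :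
    IsAffineHom (HTop.awayFrom J).ι := by
  apply isAffineHom_of_forall_exists_isAffineOpen
  intro x
  obtain ⟨U, hxU, f, h⟩ := hJ x
  refine ⟨U.1, hxU, U.2, ?_⟩
  rw [← (HTop.awayFrom J).ι.isAffineOpen_iff_of_isOpenImmersion,
    image_preimage_eq]
  have h1 := compl_support_inf_eq_basicOpen J U f h
  change IsAffineOpen (J.support.compl ⊓ U.1)
  rw [h1]
  exact U.2.basicOpen f

/-- On an affine open on which `J` is generated by `f`, the sections supported on the support of `J` are those
killed by a power of `f`. -/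
theorem mem_supportedOn_iff {J : X.IdealSheafData} (hJ : HTop.IsLocPrincipal J) (U : X.affineOpens)
    (f : Γ(X, U.1)) (hf : J.ideal U = Ideal.span {f}) (a : Γ(X, U.1)) :
    a ∈ (HTop.supportedOn J).ideal U ↔ ∃ n : ℕ, f ^ n * a = 0 := by
  have := isAffineHom_awayFrom hJ
  rw [HTop.supportedOn, Scheme.Hom.ker_apply, RingHom.mem_ker]
  have hW : (HTop.awayFrom J).ι ''ᵁ (HTop.awayFrom J).ι ⁻¹ᵁ U.1 = X.basicOpen f :=
    (image_preimage_eq _ _).trans (compl_support_inf_eq_basicOpen J U f hf)
  have key : ∀ (W : X.Opens) (hW : W = X.basicOpen f) (hle : W ≤ U.1),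
      X.presheaf.map (homOfLE hle).op a = 0 ↔ ∃ n : ℕ, f ^ n * a = 0 := by
    intro W hW hle
    subst hW
    have : IsLocalization.Away f Γ(X, X.basicOpen f) := U.2.isLocalization_basicOpen f
    have e : X.presheaf.map (homOfLE hle).op a = 0 ↔
        algebraMap Γ(X, U.1) Γ(X, X.basicOpen f) a = algebraMap Γ(X, U.1) Γ(X, X.basicOpen f) 0 := by
      rw [map_zero]; rfl
    rw [e, IsLocalization.eq_iff_exists (Submonoid.powers f)]
    constructor
    · rintro ⟨⟨_, n, rfl⟩, h⟩
      exact ⟨n, by simpa using h⟩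
    · rintro ⟨n, h⟩
      exact ⟨⟨f ^ n, n, rfl⟩, by simpa using h⟩
  have h2 := key _ hW (by rw [hW]; exact X.basicOpen_le f)
  rw [← h2, Scheme.Opens.ι_app]
  exact Iff.rfl

/-- The inverse image of a locally principal ideal sheaf on the closed subscheme cut out by the sections supported
on its support is effective Cartier. -/
theorem isEff_comap_supportedOn {J : X.IdealSheafData} (hJ : HTop.IsLocPrincipal J) :
    BlowUp.IsEffCartierIdeal (J.comap (HTop.supportedOn J).subschemeι) := by
  set S := HTop.supportedOn J with hS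
  intro x
  obtain ⟨U, hU, f, hf⟩ := hJ (S.subschemeι x)
  have hV : IsAffineOpen (S.subschemeι ⁻¹ᵁ U.1) := U.2.preimage _
  refine ⟨⟨S.subschemeι ⁻¹ᵁ U.1, hV⟩, hU, (S.subschemeι.app U.1).hom f, ?_, ?_⟩
  · have hsurj : Function.Surjective (S.subschemeι.app U.1).hom := S.subschemeι_app_surjective U
    have hker : RingHom.ker (S.subschemeι.app U.1).hom = S.ideal U := S.ker_subschemeι_app U
    refine mem_nonZeroDivisors_iff_right.mpr fun c hc => ?_
    obtain ⟨a, rfl⟩ := hsurj c
    rw [← map_mul] at hc
    have h1 : a * f ∈ S.ideal U := by rw [← hker]; exact hc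
    have h2 : a ∈ S.ideal U := by
      rw [hS, mem_supportedOn_iff hJ U f hf] at h1 ⊢
      obtain ⟨n, hn⟩ := h1
      exact ⟨n + 1, by rw [pow_succ, mul_assoc, mul_comm f a, hn]⟩
    rw [← hker] at h2
    exact h2
  · rw [ideal_comap J S.subschemeι U ⟨_, hV⟩ le_rfl, hf, Ideal.map_span, Set.image_singleton]
    rw [Scheme.Hom.appLE_eq_app]

/-- A morphism under which `J` becomes effective Cartier factors through the closed subscheme cut out by the sections
supported on `J`. -/
theorem supportedOn_le_ker {J : X.IdealSheafData} (t : T ⟶ X) (ht : BlowUp.IsEffCartierIdeal (J.comap t)) :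
    HTop.supportedOn J ≤ t.ker := by
  have hd := isSchemeTheoreticallyDominant_compl ht
  set D : T.Opens := (J.comap t).support.compl with hD
  have hle : D ≤ t ⁻¹ᵁ (HTop.awayFrom J) := by
    intro x hx
    have hx' : x ∉ (J.comap t).support := hx
    rw [Scheme.IdealSheafData.support_comap] at hx'
    exact hx'
  have hker : D.ι.ker = ⊥ := hd.ker_eq_bot
  have h1 : (D.ι ≫ t).ker = t.ker := by
    rw [← Scheme.IdealSheafData.map_ker, hker, Scheme.IdealSheafData.map_bot]
  rw [← h1]
  have h2 : D.ι ≫ t = (T.homOfLE hle ≫ (t ∣_ (HTop.awayFrom J))) ≫ (HTop.awayFrom J).ι := by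
    rw [Category.assoc, morphismRestrict_ι, Scheme.homOfLE_ι_assoc]
  rw [h2]
  exact Scheme.Hom.le_ker_comp _ _

/-- The unique lift of `t` to the closed subscheme cut out by the sections supported on `J`. -/
theorem exists_lift {J : X.IdealSheafData} (t : T ⟶ X) (ht : BlowUp.IsEffCartierIdeal (J.comap t)) :
    ∃ l : T ⟶ (HTop.supportedOn J).subscheme, l ≫ (HTop.supportedOn J).subschemeι = t := by
  refine ⟨IsClosedImmersion.lift (HTop.supportedOn J).subschemeι t ?_, IsClosedImmersion.lift_fac _ _ _⟩
  rw [Scheme.IdealSheafData.ker_subschemeι]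
  exact supportedOn_le_ker t ht

/-- The universal property of blowing up, without the condition on the exceptional divisor. -/
def Univ (b : X' ⟶ X) (I : X.IdealSheafData) : Prop :=
  ∀ (T : Scheme.{u}) (g : T ⟶ X), BlowUp.IsEffCartierIdeal (I.comap g) → ∃! h : T ⟶ X', h ≫ b = g

theorem isBlowUp_iff (b : X' ⟶ X) (I : X.IdealSheafData) (hI : HTop.IsLocPrincipal (I.comap b)) :
    BlowUp.IsBlowUp ((HTop.supportedOn (I.comap b)).subschemeι ≫ b) I ↔ Univ b I := by
  constructor
  · rintro ⟨_, h⟩ T g hg
    obtain ⟨l, hl, hu⟩ := h T g hg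
    refine ⟨l ≫ (HTop.supportedOn (I.comap b)).subschemeι, by simpa using hl, fun m hm => ?_⟩
    have hm' : BlowUp.IsEffCartierIdeal ((I.comap b).comap m) := by
      rw [← Scheme.IdealSheafData.comap_comp, hm]; exact hg
    obtain ⟨k, hk⟩ := exists_lift m hm'
    have := hu k (by simp only; rw [← Category.assoc, hk, hm])
    rw [← this, hk]
  · intro h
    refine ⟨?_, fun T g hg => ?_⟩
    · rw [Scheme.IdealSheafData.comap_comp]
      exact isEff_comap_supportedOn hI
    · obtain ⟨m, hm, hu⟩ := h T g hg
      have hm' : BlowUp.IsEffCartierIdeal ((I.comap b).comap m) := by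
        rw [← Scheme.IdealSheafData.comap_comp, hm]; exact hg
      obtain ⟨k, hk⟩ := exists_lift m hm'
      refine ⟨k, by simp only; rw [← Category.assoc, hk, hm], fun k' hk' => ?_⟩
      have := hu (k' ≫ (HTop.supportedOn (I.comap b)).subschemeι) (by simpa using hk')
      rw [← cancel_mono (HTop.supportedOn (I.comap b)).subschemeι, this, hk]

end K343.Ab
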