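import Groth.Agent.HTop.K343.Ab.Sq
import Groth.Agent.Sga5.H855.Geom
import Groth.Agent.Ega43.LimitDescendClosed
import Groth.Agent.S0590
import Groth.Agent.S0591

/-!
# Existence of almost blow up squares
-/

set_option autoImplicit false
universe u

open CategoryTheory CategoryTheory.Limits AlgebraicGeometry

namespace K343.Ab

theorem isNoetherian_of_finiteType_int {Y : Scheme.{u}} [CompactSpace Y]
    [LocallyOfFiniteType (Limits.IsTerminal.from specULiftZIsTerminal Y)] : IsNoetherian Y := by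
  have : IsNoetherianRing (ULift.{u} ℤ) := isNoetherianRing_of_ringEquiv ℤ ULift.ringEquiv.symm
  have : IsLocallyNoetherian (Spec (CommRingCat.of (ULift.{u} ℤ))) := by
    rw [isLocallyNoetherian_Spec]
    exact this
  have : IsLocallyNoetherian Y := LocallyOfFiniteType.isLocallyNoetherian
      (Limits.IsTerminal.from specULiftZIsTerminal Y)
  exact { }

/-- Noetherian models of closed immersions of finite presentation. -/
theorem exists_closed_model {Z X : Scheme.{u}} [CompactSpace X] [QuasiSeparatedSpace X] (i : Z ⟶ X)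
    [IsClosedImmersion i] [LocallyOfFinitePresentation i] :
    ∃ (X₀ Z₀ : Scheme.{u}) (i₀ : Z₀ ⟶ X₀) (p : X ⟶ X₀) (q : Z ⟶ Z₀), IsNoetherian X₀ ∧ IsClosedImmersion i₀ ∧
      IsPullback q i i₀ p := by
  obtain ⟨I, _, _, _, D, c, hc, h1, h2, ⟨eX⟩⟩ := Groth.Agent.S0590.result X
  have hN : ∀ j, IsNoetherian (D.obj j) := by
    intro j
    have := (h2 j).1
    have := (h2 j).2
    exact isNoetherian_of_finiteType_int
  have : IsCofiltered Iᵒᵖ := inferInstance
  have : ∀ j, CompactSpace (D.obj j) := fun j => inferInstance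
  have : ∀ j, QuasiSeparatedSpace (D.obj j) := fun j => inferInstance
  obtain ⟨j, Z₁, i₁, g, k1, k2, k3, k4⟩ := Groth.Agent.S0591.result D c hc Z (i ≫ eX.inv)
  obtain ⟨k, φ, Xi, Yi, fi, gi, pY, pX, l1, l2, l3⟩ := Groth.Agent.Ega43.LimitDescend.exists_descend_of_descendsLim
    Groth.Agent.Ega43.LimitDescendClosed.descendsLim_isClosedImmersion D c hc j i₁ (𝟙 (D.obj j)) (i ≫ eX.inv)
    (𝟙 c.pt) (c.π.app j) g (IsPullback.id_vert (c.π.app j)) k4 inferInstance
  have e1 : IsIso gi := l1.isIso_snd_of_isIso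
  have l4 : IsPullback pX (fi ≫ gi) i₁ (D.map φ) := by
    have := l2.paste_vert l1
    simpa using this
  have : IsClosedImmersion (fi ≫ gi) := inferInstance
  have k5 : IsPullback g (i ≫ eX.inv) i₁ (c.π.app k ≫ D.map φ) := by rw [c.w]; exact k4
  have k6 := IsPullback.of_right' k5 l4
  have k7 : IsPullback (𝟙 Z) i (i ≫ eX.inv) eX.inv := IsPullback.of_horiz_isIso ⟨by simp⟩
  exact ⟨D.obj k, Xi, fi ≫ gi, eX.inv ≫ c.π.app k, _, hN k, this, k7.paste_horiz k6⟩

/-- Blow ups of Noetherian schemes give almost blow up squares. -/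
theorem square_of_noetherian {Z X : Scheme.{u}} [IsNoetherian X] (i : Z ⟶ X) [IsClosedImmersion i] :
    ∃ (E X' : Scheme.{u}) (e : E ⟶ X') (π : E ⟶ Z) (b : X' ⟶ X), HTop.IsAlmostBlowUpSquare e π b i := by
  obtain ⟨X', b, hb⟩ := Groth.Agent.Flat2C.BlowExist.exists_isBlowUp i.ker
  have : LocallyOfFinitePresentation i := inferInstance
  have : IsProper b := Groth.Agent.Flat2C.BlowProper.isProper_of_isBlowUp hb
    (Groth.Agent.Sga5.H855.Geom.isFiniteTypeIdeal_ker i)
  have : LocallyOfFinitePresentation b := inferInstance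
  exact ⟨pullback b i, X', pullback.fst b i, pullback.snd b i, b,
    mk_square (IsPullback.of_hasPullback b i) (isLocPrincipal_of_isEff hb.1) hb.2⟩

theorem exists_square {Z X : Scheme.{u}} [CompactSpace X] [QuasiSeparatedSpace X] (i : Z ⟶ X)
    [IsClosedImmersion i] [LocallyOfFinitePresentation i] :
    ∃ (E X' : Scheme.{u}) (e : E ⟶ X') (π : E ⟶ Z) (b : X' ⟶ X), HTop.IsAlmostBlowUpSquare e π b i := by
  obtain ⟨X₀, Z₀, i₀, p, q, h1, h2, h3⟩ := exists_closed_model i
  obtain ⟨E₀, X₀', e₀, π₀, b₀, h⟩ := square_of_noetherian i₀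
  have hw : (pullback.fst e₀ (pullback.fst b₀ p) ≫ π₀) ≫ i₀ =
      (pullback.snd e₀ (pullback.fst b₀ p) ≫ pullback.snd b₀ p) ≫ p := by
    rw [Category.assoc, ← h.isPullback.w, pullback.condition_assoc, Category.assoc, pullback.condition]
  exact ⟨_, _, _, h3.lift _ _ hw, _, baseChange h p (IsPullback.of_hasPullback b₀ p) h3
    (IsPullback.of_hasPullback e₀ (pullback.fst b₀ p)) (h3.lift_snd _ _ _)⟩

end K343.Ab
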