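import Groth.Agent.HTop.K343.Ab.Cart
import Groth.Agent.Sga5.H855.Geom
import Groth.Agent.Ega43.FPOfComp

/-!
# ph and h sheaves on blow up squares and almost blow up squares
-/

set_option autoImplicit false
universe w u

open CategoryTheory CategoryTheory.Limits AlgebraicGeometry Opposite

namespace K343.Ab

theorem lfp_diagonal {X Y : Scheme.{u}} (f : X ⟶ Y) [LocallyOfFiniteType f] :
    LocallyOfFinitePresentation (pullback.diagonal f) := by
  have : LocallyOfFinitePresentation (pullback.diagonal f ≫ pullback.fst f f) := by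
    simp only [pullback.diagonal_fst]
    infer_instance
  exact Groth.Agent.Ega43.FPOfComp.locallyOfFinitePresentation_of_comp _ (pullback.fst f f)

section Eq

variable {T X X' : Scheme.{u}} {b : X' ⟶ X} (g₁ g₂ : T ⟶ X') (hg : g₁ ≫ b = g₂ ≫ b)

/-- The equalizer of two morphisms over `X`, as a pullback of the diagonal. -/
noncomputable abbrev eqι : pullback (pullback.lift g₁ g₂ hg) (pullback.diagonal b) ⟶ T :=
  pullback.fst (pullback.lift g₁ g₂ hg) (pullback.diagonal b)

theorem eqι_condition : eqι g₁ g₂ hg ≫ g₁ = eqι g₁ g₂ hg ≫ g₂ := by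
  have h := pullback.condition (f := pullback.lift g₁ g₂ hg) (g := pullback.diagonal b)
  have h1 := h =≫ pullback.fst b b
  have h2 := h =≫ pullback.snd b b
  simp only [Category.assoc, pullback.lift_fst, pullback.lift_snd, pullback.diagonal_fst, pullback.diagonal_snd,
    Category.comp_id] at h1 h2
  rw [eqι, h1, h2]

theorem equalizer_factors : ∃ l : equalizer g₁ g₂ ⟶ pullback (pullback.lift g₁ g₂ hg) (pullback.diagonal b),
    l ≫ eqι g₁ g₂ hg = equalizer.ι g₁ g₂ := by
  refine ⟨pullback.lift (equalizer.ι g₁ g₂) (equalizer.ι g₁ g₂ ≫ g₁) ?_, pullback.lift_fst _ _ _⟩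
  apply pullback.hom_ext
  · simp only [Category.assoc, pullback.lift_fst, pullback.diagonal_fst, Category.comp_id]
  · simp only [Category.assoc, pullback.lift_snd, pullback.diagonal_snd, Category.comp_id]
    exact (equalizer.condition _ _).symm

end Eq

theorem hSheaf_cartesian {S : Scheme.{u}} (F : (Over S)ᵒᵖ ⥤ Type w) (hF : Presieve.IsSheaf (HTop.Jh S) F)
    {E Z X' X : Over S} (e : E ⟶ X') (π : E ⟶ Z) (b : X' ⟶ X) (i : Z ⟶ X)
    [IsClosedImmersion i.left] [LocallyOfFinitePresentation i.left] [IsProper b.left]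
    [LocallyOfFinitePresentation b.left] (hu : Univ b.left i.left.ker)
    (hE : IsPullback e.left π.left b.left i.left)
    (t : F.obj (op Z)) (s' : F.obj (op X')) (hts : F.map π.op t = F.map e.op s') :
    ∃! s : F.obj (op X), F.map i.op s = t ∧ F.map b.op s = s' := by
  refine cartesian HTop.hTopology F hF e π b i hE ?_ ?_ t s' hts
  · intro R h1 h2
    exact pair_mem_h i.left b.left (range_or hu) R h1 h2
  · intro T g₁ g₂ hg R h1 h2
    have hc : IsClosedImmersion (eqι g₁ g₂ hg) := 
      MorphismProperty.of_isPullback (IsPullback.of_hasPullback _ _).flip (inferInstance : IsClosedImmersion (pullback.diagonal b.left))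
    have hf : LocallyOfFinitePresentation (eqι g₁ g₂ hg) :=
      MorphismProperty.of_isPullback (IsPullback.of_hasPullback _ _).flip (lfp_diagonal b.left)
    refine pair_mem_h (eqι g₁ g₂ hg) (pullback.fst (g₁ ≫ b.left) i.left) ?_ R ?_ h2
    · intro x
      rcases range_or_equalizer hu g₁ g₂ hg x with ⟨y, hy⟩ | hx
      · left
        obtain ⟨l, hl⟩ := equalizer_factors g₁ g₂ hg
        refine ⟨l y, ?_⟩
        rw [← Scheme.Hom.comp_apply, hl, hy]
      · exact Or.inr hx
    · rw [← equalizer.lift_ι (eqι g₁ g₂ hg) (eqι_condition g₁ g₂ hg)]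
      exact R.downward_closed h1 _

theorem phSheaf_cartesian {S : Scheme.{u}} (F : (Over S)ᵒᵖ ⥤ Type w) (hF : Presieve.IsSheaf (HTop.Jph S) F)
    {E Z X' X : Over S} (e : E ⟶ X') (π : E ⟶ Z) (b : X' ⟶ X) (i : Z ⟶ X)
    [IsClosedImmersion i.left] [IsProper b.left] (hu : Univ b.left i.left.ker)
    (hE : IsPullback e.left π.left b.left i.left)
    (t : F.obj (op Z)) (s' : F.obj (op X')) (hts : F.map π.op t = F.map e.op s') :
    ∃! s : F.obj (op X), F.map i.op s = t ∧ F.map b.op s = s' := by
  refine cartesian HTop.phTopology F hF e π b i hE ?_ ?_ t s' hts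
  · intro R h1 h2
    exact pair_mem_ph i.left b.left (range_or hu) R h1 h2
  · intro T g₁ g₂ hg R h1 h2
    have hc : IsClosedImmersion (eqι g₁ g₂ hg) := 
      MorphismProperty.of_isPullback (IsPullback.of_hasPullback _ _).flip (inferInstance : IsClosedImmersion (pullback.diagonal b.left))
    refine pair_mem_ph (eqι g₁ g₂ hg) (pullback.fst (g₁ ≫ b.left) i.left) ?_ R ?_ h2
    · intro x
      rcases range_or_equalizer hu g₁ g₂ hg x with ⟨y, hy⟩ | hx
      · left
        obtain ⟨l, hl⟩ := equalizer_factors g₁ g₂ hg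
        refine ⟨l y, ?_⟩
        rw [← Scheme.Hom.comp_apply, hl, hy]
      · exact Or.inr hx
    · rw [← equalizer.lift_ι (eqι g₁ g₂ hg) (eqι_condition g₁ g₂ hg)]
      exact R.downward_closed h1 _

theorem hSheaf_almostBlowUp (S : Scheme.{u}) (F : (Over S)ᵒᵖ ⥤ Type w) (hF : Presieve.IsSheaf (HTop.Jh S) F)
    {E Z X' X : Over S} (e : E ⟶ X') (π : E ⟶ Z) (b : X' ⟶ X) (i : Z ⟶ X)
    (h : HTop.IsAlmostBlowUpSquare e.left π.left b.left i.left) (t : F.obj (op Z)) (s' : F.obj (op X'))
    (hts : F.map π.op t = F.map e.op s') :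
    ∃! s : F.obj (op X), F.map i.op s = t ∧ F.map b.op s = s' := by
  have := h.isClosedImmersion
  have := h.finitePresentation_base
  have := h.isProper
  have := h.finitePresentation
  exact hSheaf_cartesian F hF e π b i (univ_of_square h) h.isPullback t s' hts

theorem phSheaf_blowUp (S : Scheme.{u}) (F : (Over S)ᵒᵖ ⥤ Type w) (hF : Presieve.IsSheaf (HTop.Jph S) F)
    {E Z X' X : Over S} (e : E ⟶ X') (π : E ⟶ Z) (b : X' ⟶ X) (i : Z ⟶ X)
    [IsClosedImmersion i.left] [LocallyOfFinitePresentation i.left] (hb : BlowUp.IsBlowUp b.left i.left.ker)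
    (hE : IsPullback e.left π.left b.left i.left) (t : F.obj (op Z)) (s' : F.obj (op X'))
    (hts : F.map π.op t = F.map e.op s') :
    ∃! s : F.obj (op X), F.map i.op s = t ∧ F.map b.op s = s' := by
  have : IsProper b.left := Groth.Agent.Flat2C.BlowProper.isProper_of_isBlowUp hb
    (Groth.Agent.Sga5.H855.Geom.isFiniteTypeIdeal_ker i.left)
  exact phSheaf_cartesian F hF e π b i hb.2 hE t s' hts

end K343.Ab
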