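import Groth.Agent.HTop.K343.Ab.Char

/-!
# Almost blow up squares: criterion, base change, closed subschemes of the corner
-/

set_option autoImplicit false
universe u

open CategoryTheory CategoryTheory.Limits AlgebraicGeometry

namespace K343.Ab

variable {E Z X' X Y E₁ Z₁ X₁ W EW : Scheme.{u}} {e : E ⟶ X'} {π : E ⟶ Z} {b : X' ⟶ X} {i : Z ⟶ X}

theorem ker_of_isPullback [IsClosedImmersion i] {g : Y ⟶ X} {i₁ : Z₁ ⟶ Y} {gZ : Z₁ ⟶ Z}
    (hZ : IsPullback gZ i₁ i g) : i₁.ker = i.ker.comap g := by
  rw [← Scheme.IdealSheafData.ker_fst_of_isClosedImmersion, ← hZ.flip.isoPullback_hom_fst,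
    Scheme.Hom.ker_comp_of_isIso]

theorem univ_of_square (h : HTop.IsAlmostBlowUpSquare e π b i) : Univ b i.ker :=
  (isBlowUp_iff b i.ker h.locPrincipal).1 h.isBlowUp

/-- Constructor for almost blow up squares. -/
theorem mk_square [hi : IsClosedImmersion i] [hi' : LocallyOfFinitePresentation i] (hp : IsPullback e π b i)
    (hl : HTop.IsLocPrincipal (i.ker.comap b)) [hb : IsProper b] [hb' : LocallyOfFinitePresentation b]
    (hu : Univ b i.ker) : HTop.IsAlmostBlowUpSquare e π b i where
  isClosedImmersion := hi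
  finitePresentation_base := hi'
  isPullback := hp
  locPrincipal := hl
  isProper := hb
  finitePresentation := hb'
  isBlowUp := (isBlowUp_iff b i.ker hl).2 hu

theorem univ_baseChange {I : X.IdealSheafData} (h : Univ b I) {g : Y ⟶ X} {b₁ : X₁ ⟶ Y} {gX : X₁ ⟶ X'}
    (hX : IsPullback gX b₁ b g) : Univ b₁ (I.comap g) := by
  intro T t ht
  rw [← Scheme.IdealSheafData.comap_comp] at ht
  obtain ⟨l, hl, hu⟩ := h T (t ≫ g) ht
  refine ⟨hX.lift l t hl, hX.lift_snd _ _ _, fun m hm => ?_⟩
  apply hX.hom_ext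
  · rw [hX.lift_fst]
    refine hu _ ?_
    simp only at hm ⊢
    rw [Category.assoc, hX.w, reassoc_of% hm]
  · rw [hX.lift_snd]
    exact hm

theorem baseChange (h : HTop.IsAlmostBlowUpSquare e π b i) (g : Y ⟶ X) {b₁ : X₁ ⟶ Y} {gX : X₁ ⟶ X'}
    (hX : IsPullback gX b₁ b g) {i₁ : Z₁ ⟶ Y} {gZ : Z₁ ⟶ Z} (hZ : IsPullback gZ i₁ i g) {e₁ : E₁ ⟶ X₁}
    {gE : E₁ ⟶ E} (hE : IsPullback gE e₁ e gX) {π₁ : E₁ ⟶ Z₁} (hπ : π₁ ≫ i₁ = e₁ ≫ b₁) :
    HTop.IsAlmostBlowUpSquare e₁ π₁ b₁ i₁ := by
  have := h.isClosedImmersion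
  have := h.finitePresentation_base
  have := h.isProper
  have := h.finitePresentation
  have hker : i₁.ker = i.ker.comap g := ker_of_isPullback hZ
  have : IsClosedImmersion i₁ := MorphismProperty.of_isPullback hZ inferInstance
  have : LocallyOfFinitePresentation i₁ := MorphismProperty.of_isPullback hZ inferInstance
  have : IsProper b₁ := MorphismProperty.of_isPullback hX inferInstance
  have : LocallyOfFinitePresentation b₁ := MorphismProperty.of_isPullback hX inferInstance
  have hw : π₁ ≫ gZ = gE ≫ π := by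
    rw [← cancel_mono i, Category.assoc, Category.assoc, hZ.w, reassoc_of% hπ, ← h.isPullback.w, ← hX.w,
      reassoc_of% hE.w]
  have h1 : IsPullback (gE ≫ π) e₁ i (gX ≫ b) := hE.paste_horiz h.isPullback.flip
  rw [← hw, hX.w] at h1
  refine mk_square (IsPullback.of_right h1 hπ hZ).flip ?_ ?_
  · rw [hker, ← Scheme.IdealSheafData.comap_comp, ← hX.w, Scheme.IdealSheafData.comap_comp]
    exact isLocPrincipal_comap h.locPrincipal gX
  · rw [hker]
    exact univ_baseChange (univ_of_square h) hX

/-- The universal property passes to closed subschemes containing the blow up. -/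
theorem univ_closed {I : X.IdealSheafData} (h : Univ b I) (hl : HTop.IsLocPrincipal (I.comap b)) (w : W ⟶ X')
    [IsClosedImmersion w] : w.ker ≤ HTop.supportedOn (I.comap b) ↔ Univ (w ≫ b) I := by
  constructor
  · intro hw T t ht
    obtain ⟨m, hm, hu⟩ := h T t ht
    have hm' : BlowUp.IsEffCartierIdeal ((I.comap b).comap m) := by
      rw [← Scheme.IdealSheafData.comap_comp, hm]; exact ht
    have hle : w.ker ≤ m.ker := hw.trans (supportedOn_le_ker m hm')
    refine ⟨IsClosedImmersion.lift w m hle, ?_, fun m' hm'' => ?_⟩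
    · simp only
      rw [IsClosedImmersion.lift_fac_assoc, hm]
    · rw [← cancel_mono w, IsClosedImmersion.lift_fac]
      exact hu _ (by simpa using hm'')
  · intro hW
    have hB : BlowUp.IsEffCartierIdeal (I.comap ((HTop.supportedOn (I.comap b)).subschemeι ≫ b)) := by
      rw [Scheme.IdealSheafData.comap_comp]
      exact isEff_comap_supportedOn hl
    obtain ⟨m, hm, -⟩ := hW _ _ hB
    have h1 : m ≫ w = (HTop.supportedOn (I.comap b)).subschemeι := by
      obtain ⟨n, -, hn⟩ := h _ _ hB
      rw [hn (m ≫ w) (by simpa using hm), hn (HTop.supportedOn (I.comap b)).subschemeι rfl]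
    have h2 := Scheme.Hom.le_ker_comp m w
    rw [h1, Scheme.IdealSheafData.ker_subschemeι] at h2
    exact h2

theorem ker_le_iff (h : HTop.IsAlmostBlowUpSquare e π b i) (w : W ⟶ X') [IsClosedImmersion w]
    [LocallyOfFinitePresentation w] {eW : EW ⟶ W} {gE : EW ⟶ E} (hEW : IsPullback gE eW e w) :
    w.ker ≤ HTop.supportedOn (i.ker.comap b) ↔ HTop.IsAlmostBlowUpSquare eW (gE ≫ π) (w ≫ b) i := by
  have := h.isClosedImmersion
  have := h.finitePresentation_base
  have := h.isProper
  have := h.finitePresentation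
  rw [univ_closed (univ_of_square h) h.locPrincipal w]
  constructor
  · intro hu
    refine mk_square ?_ ?_ hu
    · exact (hEW.paste_horiz h.isPullback.flip).flip
    · rw [Scheme.IdealSheafData.comap_comp]
      exact isLocPrincipal_comap h.locPrincipal w
  · exact univ_of_square

end K343.Ab
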